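import Mathlib.FieldTheory.Galois.Basic
import Mathlib.RingTheory.Trace.Basic
import Mathlib.RingTheory.TensorProduct.Basic
import Mathlib.RingTheory.Flat.Basic
import Groth.Prelude.Def_GalDesc

/-!
# Galois descent for vector spaces

`K / k` finite Galois.  For a `K`-module `M` with a semilinear action `v` of `K ≃ₐ[k] K`, the base change
to `K` of the space of invariants is `M`.
-/

set_option autoImplicit false

open scoped TensorProduct Matrix

namespace K447.Descent

section

variable (k : Type*) (K : Type*) [Field k] [Field K] [Algebra k K] [FiniteDimensional k K] [IsGalois k K]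

open scoped Classical in
theorem exists_dual : ∃ (n : ℕ) (x y : Fin n → K), ∀ σ : K ≃ₐ[k] K,
    ∑ i, x i * σ (y i) = if σ = 1 then 1 else 0 := by
  classical
  set n := Module.finrank k K with hn
  let b : Module.Basis (Fin n) k K := Module.finBasisOfFinrankEq k K rfl
  have hcard : Fintype.card (K ≃ₐ[k] K) = n := by
    rw [← Nat.card_eq_fintype_card, IsGalois.card_aut_eq_finrank]
  let e : (K ≃ₐ[k] K) ≃ Fin n := Fintype.equivFinOfCardEq hcard
  let B : Matrix (Fin n) (Fin n) K := Matrix.of fun s i => (e.symm s) (b i)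
  let C : Matrix (Fin n) (Fin n) K := Matrix.of fun s i => (e.symm s) (b.traceDual i)
  have h1 : Bᵀ * C = 1 := by
    ext i j
    rw [Matrix.mul_apply, Matrix.one_apply]
    simp only [Matrix.transpose_apply, B, C, Matrix.of_apply, ← map_mul]
    rw [Equiv.sum_comp e.symm (fun σ : K ≃ₐ[k] K => σ (b i * b.traceDual j)),
      ← trace_eq_sum_automorphisms, Module.Basis.trace_mul_traceDual]
    split_ifs <;> simp
  have h2 : C * Bᵀ = 1 := mul_eq_one_comm.mp h1
  refine ⟨n, b, b.traceDual, fun σ => ?_⟩
  have h3 := congrFun (congrFun h2 (e σ)) (e 1)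
  rw [Matrix.mul_apply, Matrix.one_apply] at h3
  simp only [Matrix.transpose_apply, B, C, Matrix.of_apply, Equiv.symm_apply_apply,
    AlgEquiv.one_apply, EmbeddingLike.apply_eq_iff_eq] at h3
  rw [← h3]
  exact Finset.sum_congr rfl fun i _ => mul_comm _ _

theorem exists_trace_one : ∃ θ : K, ∑ σ : K ≃ₐ[k] K, σ θ = 1 := by
  obtain ⟨θ, hθ⟩ := Algebra.trace_surjective k K 1
  exact ⟨θ, by rw [← trace_eq_sum_automorphisms, hθ, map_one]⟩

end

section

variable {k : Type*} {K : Type*} [Field k] [Field K] [Algebra k K] [FiniteDimensional k K] [IsGalois k K]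
  {M : Type*} [AddCommGroup M] [Module K M] [Module k M] [IsScalarTower k K M]

/-- A semilinear action, as a bare family of maps. -/
structure IsSemi (v : (K ≃ₐ[k] K) → M → M) : Prop where
  one : ∀ m, v 1 m = m
  mul : ∀ σ τ m, v (σ * τ) m = v σ (v τ m)
  add : ∀ σ m m', v σ (m + m') = v σ m + v σ m'
  smul : ∀ σ (c : K) m, v σ (c • m) = σ c • v σ m

variable {v : (K ≃ₐ[k] K) → M → M}

omit [FiniteDimensional k K] [IsGalois k K] [Module k M] [IsScalarTower k K M] in
theorem IsSemi.zero (hv : IsSemi v) (σ : K ≃ₐ[k] K) : v σ 0 = 0 := by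
  have := hv.smul σ 0 0
  rwa [zero_smul, map_zero, zero_smul] at this

omit [FiniteDimensional k K] [IsGalois k K] [Module k M] [IsScalarTower k K M] in
theorem IsSemi.sum (hv : IsSemi v) (σ : K ≃ₐ[k] K) {ι : Type*} (s : Finset ι) (f : ι → M) :
    v σ (∑ i ∈ s, f i) = ∑ i ∈ s, v σ (f i) := by
  classical
  induction s using Finset.induction_on with
  | empty => simp [hv.zero]
  | insert a s ha ih => rw [Finset.sum_insert ha, Finset.sum_insert ha, hv.add, ih]

omit [IsGalois k K] [Module k M] [IsScalarTower k K M] in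
theorem IsSemi.fixed_sum (hv : IsSemi v) (m : M) (τ : K ≃ₐ[k] K) :
    v τ (∑ σ : K ≃ₐ[k] K, v σ m) = ∑ σ : K ≃ₐ[k] K, v σ m := by
  rw [hv.sum]
  simp only [← hv.mul]
  exact Equiv.sum_comp (Equiv.mulLeft τ) (fun σ => v σ m)

/-- **Galois descent**: if `W` is identified with the space of invariants, then `K ⊗ W → M` is bijective. -/
theorem bijective_liftBaseChange (hv : IsSemi v) {W : Type*} [AddCommGroup W] [Module k W]
    (ι : W →ₗ[k] M) (hι : Function.Injective ι) (hr : ∀ m, m ∈ LinearMap.range ι ↔ ∀ σ, v σ m = m) :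
    Function.Bijective (ι.liftBaseChange K) := by
  classical
  obtain ⟨n, x, y, hxy⟩ := exists_dual k K
  have hinv : ∀ m : M, ∃ w : W, ι w = ∑ σ : K ≃ₐ[k] K, v σ m := fun m =>
    LinearMap.mem_range.mp ((hr _).mpr fun τ => hv.fixed_sum m τ)
  choose p hp using hinv
  have hpadd : ∀ m m', p (m + m') = p m + p m' := fun m m' => hι (by
    rw [map_add, hp, hp, hp, ← Finset.sum_add_distrib]
    exact Finset.sum_congr rfl fun σ _ => hv.add σ m m')
  have hp0 : p 0 = 0 := hι (by rw [hp, map_zero]; exact Finset.sum_eq_zero fun σ _ => hv.zero σ)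
  have hfix : ∀ (w : W) (σ : K ≃ₐ[k] K), v σ (ι w) = ι w := fun w σ => (hr _).mp ⟨w, rfl⟩ σ
  have hpsmul : ∀ (c : K) (w : W), p (c • ι w) = Algebra.trace k K c • w := fun c w => hι (by
    rw [hp, map_smul, ← IsScalarTower.algebraMap_smul K (Algebra.trace k K c) (ι w),
      trace_eq_sum_automorphisms, Finset.sum_smul]
    exact Finset.sum_congr rfl fun σ _ => by rw [hv.smul, hfix])
  let s : M → K ⊗[k] W := fun m => ∑ i, x i ⊗ₜ[k] p (y i • m)
  have hs0 : s 0 = 0 := by
    simp only [s, smul_zero, hp0, TensorProduct.tmul_zero, Finset.sum_const_zero]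
  have hsadd : ∀ m m', s (m + m') = s m + s m' := fun m m' => by
    simp only [s, smul_add, hpadd, TensorProduct.tmul_add, Finset.sum_add_distrib]
  have hFs : ∀ m, ι.liftBaseChange K (s m) = m := by
    intro m
    simp only [s, map_sum, LinearMap.liftBaseChange_tmul, hp, Finset.smul_sum, hv.smul, smul_smul]
    rw [Finset.sum_comm]
    simp only [← Finset.sum_smul, hxy, ite_smul, one_smul, zero_smul, Finset.sum_ite_eq', Finset.mem_univ,
      if_true, hv.one]
  have hsF : ∀ z, s (ι.liftBaseChange K z) = z := by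
    intro z
    induction z using TensorProduct.induction_on with
    | zero => rw [map_zero, hs0]
    | add z z' hz hz' => rw [map_add, hsadd, hz, hz']
    | tmul r w =>
      simp only [s, LinearMap.liftBaseChange_tmul, smul_smul, hpsmul, ← TensorProduct.smul_tmul]
      rw [← TensorProduct.sum_tmul]
      congr 1
      simp only [Algebra.smul_def, trace_eq_sum_automorphisms, map_mul, Finset.sum_mul]
      rw [Finset.sum_comm]
      have : ∀ σ : K ≃ₐ[k] K, ∑ i, σ (y i) * σ r * x i = if σ = 1 then r else 0 := by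
        intro σ
        have h := hxy σ
        calc ∑ i, σ (y i) * σ r * x i = (∑ i, x i * σ (y i)) * σ r := by
              rw [Finset.sum_mul]
              exact Finset.sum_congr rfl fun i _ => by ring
          _ = _ := by
              rw [h]
              split_ifs with h1
              · rw [h1, one_mul, AlgEquiv.one_apply]
              · rw [zero_mul]
      simp only [this, Finset.sum_ite_eq', Finset.mem_univ, if_true]
  exact ⟨Function.LeftInverse.injective hsF, fun m => ⟨s m, hFs m⟩⟩

/-- The invariants of `K ⊗ W` are `1 ⊗ W`. -/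
theorem exists_of_fixed {W : Type*} [AddCommGroup W] [Module k W] (z : K ⊗[k] W)
    (hz : ∀ σ : K ≃ₐ[k] K, σ • z = z) : ∃ w : W, (1 : K) ⊗ₜ[k] w = z := by
  classical
  obtain ⟨θ, hθ⟩ := exists_trace_one k K
  let T : K ⊗[k] W →ₗ[k] W :=
    (TensorProduct.lid k W).toLinearMap ∘ₗ (Algebra.trace k K ∘ₗ LinearMap.mulLeft k θ).rTensor W
  have hT : ∀ z : K ⊗[k] W, (1 : K) ⊗ₜ[k] (T z) = ∑ σ : K ≃ₐ[k] K, σ • (θ • z) := by
    intro z
    induction z using TensorProduct.induction_on with
    | zero => simp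
    | add z z' hz hz' => simp only [map_add, TensorProduct.tmul_add, hz, hz', smul_add, Finset.sum_add_distrib]
    | tmul r w =>
      have h : T (r ⊗ₜ w) = Algebra.trace k K (θ * r) • w := by simp [T]
      rw [h, ← TensorProduct.smul_tmul, Algebra.smul_def, mul_one, trace_eq_sum_automorphisms,
        TensorProduct.sum_tmul]
      exact Finset.sum_congr rfl fun σ _ => by
        rw [TensorProduct.smul_tmul', TensorProduct.smul_tmul', smul_eq_mul]; rfl
  refine ⟨T z, ?_⟩
  rw [hT]
  simp only [smul_distrib_smul, hz]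
  rw [← Finset.sum_smul]
  change (∑ σ : K ≃ₐ[k] K, σ θ) • z = z
  rw [hθ, one_smul]

omit [FiniteDimensional k K] [IsGalois k K] in
theorem smul_one_tmul {W : Type*} [AddCommGroup W] [Module k W] (σ : K ≃ₐ[k] K) (w : W) :
    σ • ((1 : K) ⊗ₜ[k] w) = (1 : K) ⊗ₜ[k] w := by
  rw [TensorProduct.smul_tmul', smul_one]

omit [FiniteDimensional k K] [IsGalois k K] in
theorem tmul_one_injective {W : Type*} [AddCommGroup W] [Module k W] :
    Function.Injective fun w : W => (1 : K) ⊗ₜ[k] w :=
  Module.Flat.tensorProduct_mk_injective (R := k) (S := K) (M := W)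

/-- An equivariant `K`-linear map between base changes is a base change. -/
theorem exists_linearMap_of_equivariant {W W' : Type*} [AddCommGroup W] [Module k W]
    [AddCommGroup W'] [Module k W'] (f : K ⊗[k] W →ₗ[K] K ⊗[k] W')
    (hf : ∀ (σ : K ≃ₐ[k] K) z, f (σ • z) = σ • f z) :
    ∃ e : W →ₗ[k] W', ∀ w, (1 : K) ⊗ₜ[k] e w = f (1 ⊗ₜ[k] w) := by
  have h : ∀ w : W, ∃ w' : W', (1 : K) ⊗ₜ[k] w' = f (1 ⊗ₜ[k] w) := fun w =>
    exists_of_fixed _ fun σ => by rw [← hf, smul_one_tmul]
  choose e he using h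
  have hinj : Function.Injective fun w' : W' => (1 : K) ⊗ₜ[k] w' := tmul_one_injective
  refine ⟨{ toFun := e, map_add' := fun w w' => hinj ?_, map_smul' := fun c w => hinj ?_ }, he⟩
  · simp only [he, TensorProduct.tmul_add, map_add]
  · simp only [he, TensorProduct.tmul_smul, RingHom.id_apply]
    exact LinearMap.map_smul_of_tower f c _

/-- An equivariant `K`-linear isomorphism between base changes is a base change. -/
theorem exists_linearEquiv_of_equivariant {W W' : Type*} [AddCommGroup W] [Module k W]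
    [AddCommGroup W'] [Module k W'] (f : K ⊗[k] W ≃ₗ[K] K ⊗[k] W')
    (hf : ∀ (σ : K ≃ₐ[k] K) z, f (σ • z) = σ • f z) :
    ∃ e : W ≃ₗ[k] W', ∀ w, (1 : K) ⊗ₜ[k] e w = f (1 ⊗ₜ[k] w) := by
  obtain ⟨e, he⟩ := exists_linearMap_of_equivariant f.toLinearMap hf
  have hf' : ∀ (σ : K ≃ₐ[k] K) z, f.symm (σ • z) = σ • f.symm z := fun σ z =>
    f.injective (by rw [f.apply_symm_apply, hf, f.apply_symm_apply])
  obtain ⟨e', he'⟩ := exists_linearMap_of_equivariant f.symm.toLinearMap hf'
  simp only [LinearEquiv.coe_coe] at he he'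
  refine ⟨LinearEquiv.ofLinearMap e e' ?_ ?_, he⟩
  · ext w
    refine tmul_one_injective (k := k) (K := K) ?_
    simp only [LinearMap.comp_apply, he, he', LinearEquiv.apply_symm_apply, LinearMap.id_apply]
  · ext w
    refine tmul_one_injective (k := k) (K := K) ?_
    simp only [LinearMap.comp_apply, he, he', LinearEquiv.symm_apply_apply, LinearMap.id_apply]

end

end K447.Descent
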