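import Groth.Agent.GalCoh.K447.Descent

/-!
# Cocycles of trivialisations and twisted forms: common lemmas
-/

set_option autoImplicit false

open scoped TensorProduct

namespace K447.Forms

open GalDesc K447.Descent

theorem cocycle_one {G A : Type*} [Group G] [Group A] [MulDistribMulAction G A]
    (a : GpH1.OneCocycle G A) : a 1 = 1 := by
  have h := a.2 1 1
  rw [mul_one, one_smul] at h
  exact mul_eq_left.mp h.symm

section

variable {k : Type*} {K : Type*} [Field k] [Field K] [Algebra k K]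
variable {M N P : Type*}
  [AddCommGroup M] [Module K M] [DistribMulAction (K ≃ₐ[k] K) M] [SMulDistribClass (K ≃ₐ[k] K) K M]
  [AddCommGroup N] [Module K N] [DistribMulAction (K ≃ₐ[k] K) N] [SMulDistribClass (K ≃ₐ[k] K) K N]
  [AddCommGroup P] [Module K P] [DistribMulAction (K ≃ₐ[k] K) P] [SMulDistribClass (K ≃ₐ[k] K) K P]

theorem cocycle_apply_smul (a : GpH1.OneCocycle (K ≃ₐ[k] K) (M ≃ₗ[K] M)) (σ τ : K ≃ₐ[k] K) (x : M) :
    a (σ * τ) ((σ * τ) • x) = a σ (σ • a τ (τ • x)) := by
  rw [a.2 σ τ]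
  change a σ ((σ • a τ) ((σ * τ) • x)) = _
  rw [conj_smul_apply, mul_smul, inv_smul_smul]

theorem isSemi_twist (a : GpH1.OneCocycle (K ≃ₐ[k] K) (M ≃ₗ[K] M)) :
    IsSemi (k := k) (K := K) (fun σ (x : M) => a σ (σ • x)) where
  one m := by rw [cocycle_one, one_smul]; rfl
  mul σ τ m := cocycle_apply_smul a σ τ m
  add σ m m' := by rw [smul_add, map_add]
  smul σ c m := by rw [smul_distrib_smul, map_smul]; rfl

/-- If the cocycles of `g` and `g'` are cohomologous through `c`, then `g' ∘ c ∘ g⁻¹` is equivariant. -/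
theorem equivariant_of_cohom (g : M ≃ₗ[K] N) (g' : M ≃ₗ[K] P) (c : M ≃ₗ[K] M) (σ : K ≃ₐ[k] K)
    (h : cocycle k g σ = c⁻¹ * cocycle k g' σ * σ • c) (z : N) :
    g' (c (g.symm (σ • z))) = σ • g' (c (g.symm z)) := by
  have h1 := LinearEquiv.congr_fun h (σ • g.symm z)
  have h2 : (c⁻¹ * cocycle k g' σ * σ • c) (σ • g.symm z) =
      c.symm (cocycle k g' σ ((σ • c) (σ • g.symm z))) := rfl
  rw [h2, cocycle_apply, conj_smul_apply, cocycle_apply, inv_smul_smul, inv_smul_smul,
    g.apply_symm_apply] at h1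
  rw [h1, c.apply_symm_apply, g'.apply_symm_apply]

/-- The converse of `equivariant_of_cohom`. -/
theorem cohom_of_equivariant (g : M ≃ₗ[K] N) (g' : M ≃ₗ[K] P) (c : M ≃ₗ[K] M) (σ : K ≃ₐ[k] K)
    (h : ∀ z : N, g' (c (g.symm (σ • z))) = σ • g' (c (g.symm z))) :
    cocycle k g σ = c⁻¹ * cocycle k g' σ * σ • c := by
  refine LinearEquiv.ext fun x => ?_
  have h2 : (c⁻¹ * cocycle k g' σ * σ • c) x = c.symm (cocycle k g' σ ((σ • c) x)) := rfl
  rw [h2, cocycle_apply, conj_smul_apply, cocycle_apply, inv_smul_smul]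
  refine c.injective (g'.injective ?_)
  rw [c.apply_symm_apply, g'.apply_symm_apply, h, g.symm_apply_apply]

end

section

variable {k : Type*} {K : Type*} [Field k] [Field K] [Algebra k K]
variable {V W W' : Type*} [AddCommGroup V] [Module k V] [AddCommGroup W] [Module k W]
  [AddCommGroup W'] [Module k W']

theorem baseChange_smul (e : W →ₗ[k] W') (σ : K ≃ₐ[k] K) (z : K ⊗[k] W) :
    e.baseChange K (σ • z) = σ • e.baseChange K z := by
  induction z using TensorProduct.induction_on with
  | zero => simp only [smul_zero, map_zero]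
  | add x y hx hy => simp only [smul_add, map_add, hx, hy]
  | tmul c w => simp only [TensorProduct.smul_tmul', LinearMap.baseChange_tmul]

/-- Two bilinear forms on a base change that agree on `1 ⊗ w` agree. -/
theorem bilin_ext {B C : LinearMap.BilinForm K (K ⊗[k] W)}
    (h : ∀ w w' : W, B (1 ⊗ₜ w) (1 ⊗ₜ w') = C (1 ⊗ₜ w) (1 ⊗ₜ w')) : B = C := by
  ext w w'
  exact h w w'

theorem linear_ext {N : Type*} [AddCommGroup N] [Module K N] {f f' : K ⊗[k] W →ₗ[K] N}
    (h : ∀ w : W, f (1 ⊗ₜ w) = f' (1 ⊗ₜ w)) : f = f' := by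
  refine LinearMap.ext fun z => ?_
  induction z using TensorProduct.induction_on with
  | zero => rw [map_zero, map_zero]
  | add x y hx hy => rw [map_add, map_add, hx, hy]
  | tmul c w =>
    have : c ⊗ₜ[k] w = c • ((1 : K) ⊗ₜ[k] w) := by rw [TensorProduct.smul_tmul', smul_eq_mul, mul_one]
    rw [this, map_smul, map_smul, h]

/-- The base change of an isometry is an isometry. -/
theorem baseChange_isom {Ψ : LinearMap.BilinForm k W} {Ψ' : LinearMap.BilinForm k W'} (e : W →ₗ[k] W')
    (he : ∀ x y, Ψ' (e x) (e y) = Ψ x y) (x y : K ⊗[k] W) :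
    Ψ'.baseChange K (e.baseChange K x) (e.baseChange K y) = Ψ.baseChange K x y := by
  have h : (Ψ'.baseChange K).compl₁₂ (e.baseChange K) (e.baseChange K) = Ψ.baseChange K :=
    bilin_ext fun w w' => by
      simp only [LinearMap.compl₁₂_apply, LinearMap.baseChange_tmul, LinearMap.BilinForm.baseChange_tmul, he]
  exact LinearMap.congr_fun (LinearMap.congr_fun h x) y

end

section

variable {k : Type*} {K : Type*} [Field k] [Field K] [Algebra k K] [FiniteDimensional k K] [IsGalois k K]
variable {V W : Type*} [AddCommGroup V] [Module k V] [AddCommGroup W] [Module k W]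

/-- The trivialisation attached to a cocycle and a model `ι` of its space of fixed vectors. -/
noncomputable def triv (a : GpH1.OneCocycle (K ≃ₐ[k] K) (K ⊗[k] V ≃ₗ[K] K ⊗[k] V))
    (ι : W →ₗ[k] K ⊗[k] V) (hι : Function.Injective ι) (hW : LinearMap.range ι = fixedSub a) :
    K ⊗[k] V ≃ₗ[K] K ⊗[k] W :=
  (LinearEquiv.ofBijective (ι.liftBaseChange K)
    (bijective_liftBaseChange (isSemi_twist a) ι hι (fun m => by rw [hW]; exact mem_fixedSub a m))).symm

variable (a : GpH1.OneCocycle (K ≃ₐ[k] K) (K ⊗[k] V ≃ₗ[K] K ⊗[k] V))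
    (ι : W →ₗ[k] K ⊗[k] V) (hι : Function.Injective ι) (hW : LinearMap.range ι = fixedSub a)

theorem triv_symm_apply (z : K ⊗[k] W) : (triv a ι hι hW).symm z = ι.liftBaseChange K z := rfl

theorem triv_symm_tmul (c : K) (x : W) : (triv a ι hι hW).symm (c ⊗ₜ[k] x) = c • ι x := rfl

omit [FiniteDimensional k K] [IsGalois k K] in
include hW in
theorem fixed (x : W) (σ : K ≃ₐ[k] K) : a σ (σ • ι x) = ι x :=
  (mem_fixedSub a (ι x)).mp (by rw [← hW]; exact ⟨x, rfl⟩) σ

theorem triv_symm_smul (σ : K ≃ₐ[k] K) (z : K ⊗[k] W) :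
    (triv a ι hι hW).symm (σ • z) = a σ (σ • (triv a ι hι hW).symm z) := by
  induction z using TensorProduct.induction_on with
  | zero => simp only [smul_zero, map_zero]
  | add x y hx hy => simp only [smul_add, map_add, hx, hy]
  | tmul c w =>
    rw [TensorProduct.smul_tmul', triv_symm_tmul, triv_symm_tmul, smul_distrib_smul, map_smul,
      fixed a ι hW]

theorem cocycle_triv : cocycle k (triv a ι hι hW) = a := by
  refine GpH1.OneCocycle.ext fun σ => LinearEquiv.ext fun x => ?_
  rw [cocycle_apply, triv_symm_smul, LinearEquiv.symm_apply_apply, smul_inv_smul]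

/-- A function of two invariant vectors with invariant values is defined over `k`. -/
theorem exists_algebraMap_eq (c : K) (hc : ∀ σ : K ≃ₐ[k] K, σ c = c) : ∃ r : k, algebraMap k K r = c :=
  (IsGalois.mem_range_algebraMap_iff_fixed c).mpr hc

end

end K447.Forms
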