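import Mathlib.RingTheory.Henselian
import Mathlib.RingTheory.LocalRing.ResidueField.Basic
import Mathlib.Algebra.Polynomial.Monic
import Mathlib.Tactic

/-!
# Principal units of a henselian local ring are uniquely divisible by integers prime to the residue
characteristic
-/

set_option autoImplicit false

open IsLocalRing Polynomial

namespace K447.HensUnits

variable {R : Type*} [CommRing R]

theorem isUnit_natCast [IsLocalRing R] {m : ℕ} (hm : (m : ResidueField R) ≠ 0) : IsUnit (m : R) := by
  rw [← residue_ne_zero_iff_isUnit, map_natCast]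
  exact hm

theorem eq_one_of_pow [IsLocalRing R] {m : ℕ} (hm : (m : ResidueField R) ≠ 0) (y : R)
    (hy : residue R y = 1) (h : y ^ m = 1) : y = 1 := by
  have h1 := mul_geom_sum y m
  rw [h, sub_self] at h1
  have h2 : IsUnit (∑ i ∈ Finset.range m, y ^ i) := by
    rw [← residue_ne_zero_iff_isUnit, map_sum]
    simpa [hy] using hm
  rw [← sub_eq_zero]
  exact (h2.mul_left_eq_zero).mp h1

theorem exists_pow_eq [HenselianLocalRing R] {m : ℕ} (hm : (m : ResidueField R) ≠ 0) (x : R)
    (hx : residue R x = 1) : ∃ y : R, residue R y = 1 ∧ y ^ m = x := by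
  have hm0 : m ≠ 0 := by rintro rfl; exact hm Nat.cast_zero
  obtain ⟨a, ha, ha'⟩ := HenselianLocalRing.is_henselian (X ^ m - C x) (monic_X_pow_sub_C x hm0) 1
    (by
      rw [← residue_eq_zero_iff]
      simp [hx])
    (by
      rw [derivative_sub, derivative_C, sub_zero, derivative_X_pow]
      simpa using isUnit_natCast hm)
  refine ⟨a, ?_, ?_⟩
  · rw [← residue_eq_zero_iff, map_sub, map_one, sub_eq_zero] at ha'
    exact ha'
  · rw [IsRoot.def, eval_sub, eval_pow, eval_X, eval_C, sub_eq_zero] at ha
    exact ha

theorem units_eq_one_of_pow [IsLocalRing R] {m : ℕ} (hm : (m : ResidueField R) ≠ 0) (y : Rˣ)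
    (hy : Units.map (residue R).toMonoidHom y = 1) (h : y ^ m = 1) : y = 1 := by
  refine Units.ext (eq_one_of_pow hm y ?_ ?_)
  · exact congrArg Units.val hy
  · have := congrArg Units.val h
    rwa [Units.val_pow_eq_pow_val] at this

theorem units_exists_pow_eq [HenselianLocalRing R] {m : ℕ} (hm : (m : ResidueField R) ≠ 0) (x : Rˣ)
    (hx : Units.map (residue R).toMonoidHom x = 1) :
    ∃ y : Rˣ, Units.map (residue R).toMonoidHom y = 1 ∧ y ^ m = x := by
  obtain ⟨y, hy, hyx⟩ := exists_pow_eq hm (x : R) (congrArg Units.val hx)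
  have hu : IsUnit y := by
    rw [← residue_ne_zero_iff_isUnit, hy]
    exact one_ne_zero
  refine ⟨hu.unit, Units.ext ?_, Units.ext ?_⟩
  · exact hy
  · rw [Units.val_pow_eq_pow_val]
    exact hyx

theorem units_map_surjective [IsLocalRing R] :
    Function.Surjective (Units.map (residue R).toMonoidHom) :=
  surjective_units_map_of_local_ringHom _ residue_surjective inferInstance

end K447.HensUnits
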