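import Groth.Agent.CurvesA.FormSystems

/-!
# The norm of a finite extension of a `C₁` field is surjective
-/

set_option autoImplicit false

namespace K447.NormC1

open MvPolynomial Groth.Agent.CurvesA.FormSystems

theorem norm_surjective {K L : Type*} [Field K] [Field L] [Algebra K L] [FiniteDimensional K L]
    (hK : Curves.IsCr K 1) : Function.Surjective (Algebra.norm K : L → K) := by
  classical
  intro c
  set e := Module.finrank K L with he
  have hepos : 0 < e := Module.finrank_pos
  let b : Module.Basis (Fin e) K L := Module.finBasis K L
  let M : Matrix (Fin e) (Fin e) (MvPolynomial (Option (Fin e)) K) :=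
    ∑ i, (X (some i) : MvPolynomial (Option (Fin e)) K) • (Algebra.leftMulMatrix b (b i)).map C
  have hMhom : ∀ p q, (M p q).IsHomogeneous 1 := by
    intro p q
    simp only [M, Matrix.sum_apply, Matrix.smul_apply, Matrix.map_apply, smul_eq_mul]
    refine IsHomogeneous.sum _ _ _ fun i _ => ?_
    have := (isHomogeneous_X K (some i)).mul (isHomogeneous_C (Option (Fin e)) (Algebra.leftMulMatrix b (b i) p q))
    simpa using this
  let F : MvPolynomial (Option (Fin e)) K := M.det - C c * X none ^ e
  have hF : F.IsHomogeneous e := by
    have h1 := isHomogeneous_det M 1 hMhom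
    rw [Fintype.card_fin, mul_one] at h1
    refine h1.sub ?_
    have h2 := (isHomogeneous_C (Option (Fin e)) c).mul ((isHomogeneous_X K (none : Option (Fin e))).pow e)
    simpa using h2
  obtain ⟨a, ha, hz⟩ := isCr_fintype hK F e hF hepos (by simp)
  let x : L := ∑ i, a (some i) • b i
  have hMx : (eval a).mapMatrix M = Algebra.leftMulMatrix b x := by
    rw [map_sum]
    simp only [x, map_sum, map_smul]
    refine Finset.sum_congr rfl fun i _ => ?_
    ext p q
    simp
  have h3 : Algebra.norm K x = c * a none ^ e := by
    have h4 : eval a M.det = c * a none ^ e := by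
      have : eval a F = eval a M.det - c * a none ^ e := by simp [F]
      rw [this] at hz
      exact sub_eq_zero.mp hz
    rw [← h4, RingHom.map_det, hMx, Algebra.norm_eq_matrix_det b]
  have hne : a none ≠ 0 := by
    intro h0
    rw [h0, zero_pow hepos.ne', mul_zero, Algebra.norm_eq_zero_iff] at h3
    apply ha
    funext j
    rcases j with _ | j
    · exact h0
    · exact Fintype.linearIndependent_iff.mp b.linearIndependent (fun i => a (some i)) h3 j
  refine ⟨(a none)⁻¹ • x, ?_⟩
  rw [Algebra.smul_def, map_mul, Algebra.norm_algebraMap, h3, ← he, mul_comm, mul_assoc, ← mul_pow,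
    mul_inv_cancel₀ hne, one_pow, mul_one]

end K447.NormC1
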