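import Groth.Agent.GalCoh.K447.NormC1
import Groth.Agent.CurvesA.BrauerTrdeg
import Groth.Agent.Etbc.H226.Hilbert90
import Mathlib.GroupTheory.Sylow
import Mathlib.GroupTheory.IndexNormal

/-!
# The kernel of the norm of a Galois extension of a `C₁` field
-/

set_option autoImplicit false

universe u v

open Module

namespace K447.NormKer

section

variable (K : Type v) (L : Type u) [Field K] [Field L] [Algebra K L]

/-- The subgroup generated by the `w / g w`. -/
def IG : Subgroup Lˣ :=
  Subgroup.closure {v : Lˣ | ∃ (w : Lˣ) (g : L ≃ₐ[K] L), (v : L) = (w : L) / g (w : L)}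

variable {K L}

theorem mem_IG {v : Lˣ} (w : Lˣ) (g : L ≃ₐ[K] L) (h : (v : L) = (w : L) / g (w : L)) : v ∈ IG K L :=
  Subgroup.subset_closure ⟨w, g, h⟩

theorem norm_of_mem [FiniteDimensional K L] {v : Lˣ} (h : v ∈ IG K L) :
    Algebra.norm K (v : L) = 1 := by
  induction h using Subgroup.closure_induction with
  | mem v hv =>
    obtain ⟨w, g, hw⟩ := hv
    have h1 : Algebra.norm K (g (w : L)) = Algebra.norm K (w : L) := by
      have := Algebra.norm_eq_of_algEquiv g (w : L)
      exact this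
    have h2 : (v : L) * g (w : L) = w := by rw [hw, div_mul_cancel₀ _ (by simp)]
    have h3 := congrArg (Algebra.norm K) h2
    rw [map_mul, h1] at h3
    have h4 : Algebra.norm K (w : L) ≠ 0 := by
      rw [Ne, Algebra.norm_eq_zero_iff]
      exact w.ne_zero
    exact mul_right_cancel₀ h4 (by rw [h3, one_mul])
  | one => rw [Units.val_one, map_one]
  | mul x y _ _ hx hy => rw [Units.val_mul, map_mul, hx, hy, one_mul]
  | inv x _ hx =>
    have h1 : Algebra.norm K (x : L) * Algebra.norm K ((x⁻¹ : Lˣ) : L) = 1 := by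
      rw [← map_mul, Units.mul_inv, map_one]
    rwa [hx, one_mul] at h1

theorem IG_le (E : IntermediateField K L) : IG E L ≤ IG K L := by
  refine (Subgroup.closure_le _).mpr ?_
  rintro v ⟨w, g, h⟩
  exact mem_IG w (g.restrictScalars K) h

/-- The norm to an intermediate field is equivariant. -/
theorem norm_equivariant (E : IntermediateField K L) [Normal K E] (s : L ≃ₐ[K] L) (x : L) :
    Algebra.norm E (s x) = (AlgEquiv.restrictNormal s E) (Algebra.norm E x) := by
  have h := Algebra.norm_eq_of_equiv_equiv (A₁ := E) (A₂ := E) (B₁ := L) (B₂ := L)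
    (AlgEquiv.restrictNormal s E).toRingEquiv s.toRingEquiv (by
      ext y
      exact AlgEquiv.restrictNormal_commutes s E y) x
  rw [h]
  exact ((AlgEquiv.restrictNormal s E).toRingEquiv.apply_symm_apply _).symm

end

theorem mem_IG_of_pGroup {L : Type u} [Field L] {p : ℕ} [hp : Fact p.Prime] (n : ℕ) :
    ∀ (K : Type u) [Field K] [Algebra K L] [FiniteDimensional K L] [IsGalois K L]
      (_ : Curves.IsCi K 1) (_ : Nat.card (L ≃ₐ[K] L) = p ^ n) (u : Lˣ)
      (_ : Algebra.norm K (u : L) = 1), u ∈ IG K L := by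
  induction n with
  | zero =>
    intro K _ _ _ _ _ hc u hu
    rw [pow_zero, Nat.card_eq_one_iff_unique] at hc
    obtain ⟨_, _⟩ := hc
    have h1 := Algebra.norm_eq_prod_automorphisms K (u : L)
    rw [hu, map_one, Fintype.prod_eq_single (1 : L ≃ₐ[K] L) (fun σ hσ => absurd (Subsingleton.elim σ 1) hσ),
      AlgEquiv.one_apply] at h1
    have h2 : u = 1 := Units.ext h1.symm
    rw [h2]
    exact one_mem _
  | succ n ih =>
    intro K _ _ _ _ hK hc u hu
    obtain ⟨N, hN⟩ := Sylow.exists_subgroup_card_pow_prime (G := L ≃ₐ[K] L) p (n := n)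
      (by rw [hc]; exact pow_dvd_pow p n.le_succ)
    have hidx : N.index = p := by
      have h1 := N.card_mul_index
      rw [hN, hc, pow_succ] at h1
      exact Nat.eq_of_mul_eq_mul_left (pow_pos hp.out.pos n) h1
    have hnorm : N.Normal := Subgroup.normal_of_index_eq_minFac_card (by
      rw [hidx, hc, Nat.pow_minFac n.succ_ne_zero, hp.out.minFac_eq])
    let E : IntermediateField K L := IntermediateField.fixedField N
    have hEL : finrank E L = p ^ n := by
      rw [IntermediateField.finrank_fixedField_eq_card, hN]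
    have hKE : finrank K E = p := by
      have h1 := finrank_mul_finrank K E L
      rw [hEL, ← IsGalois.card_aut_eq_finrank K L, hc, pow_succ, mul_comm] at h1
      exact Nat.eq_of_mul_eq_mul_left (pow_pos hp.out.pos n) h1
    have : IsGalois K E := IsGalois.of_fixedField_normal_subgroup N
    have hcE : Nat.card (E ≃ₐ[K] E) = p := by rw [IsGalois.card_aut_eq_finrank, hKE]
    have : IsCyclic (E ≃ₐ[K] E) := isCyclic_of_prime_card hcE
    obtain ⟨s, hs⟩ := IsCyclic.exists_generator (α := E ≃ₐ[K] E)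
    obtain ⟨s', hs'⟩ := AlgEquiv.restrictNormalHom_surjective (F := K) (K₁ := E) L s
    have hE : Curves.IsCi E 1 := Groth.Agent.S0210.result K E 1 hK
    -- Hilbert 90 for `E / K`
    obtain ⟨y, hy⟩ := Groth.Agent.Etbc.H226.Hilbert90.exists_div hs (x := Algebra.norm E (u : L))
      (by rw [Algebra.norm_norm, hu])
    obtain ⟨z, hz⟩ := K447.NormC1.norm_surjective
      (Groth.Agent.CurvesA.BrauerTrdeg.isCr_of_isCi hE) (L := L) (y : E)
    have hz0 : z ≠ 0 := by
      rintro rfl
      rw [Algebra.norm_zero] at hz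
      exact y.ne_zero hz.symm
    let w : Lˣ := Units.mk0 z hz0
    let v : Lˣ := u * (Units.map (s' : L →* L) w) / w
    have hv : Algebra.norm E (v : L) = 1 := by
      have h1 : (v : L) * z = u * s' z := by
        have : v * w = u * (Units.map (s' : L →* L) w) := div_mul_cancel _ _
        exact congrArg Units.val this
      have h2 := congrArg (Algebra.norm E) h1
      rw [map_mul, map_mul, norm_equivariant, hz, ← hy] at h2
      have h3 : AlgEquiv.restrictNormal s' E = s := hs'
      rw [h3, div_mul_cancel₀ _ (by simp)] at h2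
      have h4 : (y : E) ≠ 0 := y.ne_zero
      exact mul_right_cancel₀ h4 (by rw [h2, one_mul])
    have hcEL : Nat.card (L ≃ₐ[E] L) = p ^ n := by rw [IsGalois.card_aut_eq_finrank, hEL]
    have h5 := IG_le E (ih E hE hcEL v hv)
    have h6 : u = v * (w / Units.map (s' : L →* L) w) := by
      simp only [v]
      rw [div_mul_div_comm, mul_assoc, mul_comm (Units.map (s' : L →* L) w) w, mul_div_assoc, div_self', mul_one]
    rw [h6]
    refine mul_mem h5 (mem_IG w s' ?_)
    rw [Units.val_div_eq_div_val]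
    rfl

/-- Left cosets and a subgroup parametrise the group. -/
theorem bijective_out_mul {G : Type*} [Group G] (P : Subgroup G) :
    Function.Bijective fun x : (G ⧸ P) × P => (Quotient.out x.1 : G) * (x.2 : G) := by
  have hmk : ∀ x : (G ⧸ P) × P, (((Quotient.out x.1 : G) * (x.2 : G) : G) : G ⧸ P) = x.1 := fun x => by
    rw [QuotientGroup.mk_mul_of_mem _ x.2.2]
    exact Quotient.out_eq' x.1
  constructor
  · intro x y hxy
    have h1 : x.1 = y.1 := by
      rw [← hmk x, ← hmk y]
      exact congrArg (fun g : G => (g : G ⧸ P)) hxy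
    refine Prod.ext h1 (Subtype.ext ?_)
    change (Quotient.out x.1 : G) * (x.2 : G) = (Quotient.out y.1 : G) * (y.2 : G) at hxy
    rw [h1] at hxy
    exact mul_left_cancel hxy
  · intro g
    have h1 : (Quotient.out (g : G ⧸ P) : G)⁻¹ * g ∈ P := by
      rw [← QuotientGroup.eq]
      exact Quotient.out_eq' _
    exact ⟨((g : G ⧸ P), ⟨_, h1⟩), mul_inv_cancel_left _ _⟩

theorem exists_pow_mem {K L : Type u} [Field K] [Field L] [Algebra K L] [FiniteDimensional K L]
    [IsGalois K L] (hK : Curves.IsCi K 1) {p : ℕ} [hp : Fact p.Prime] (u : Lˣ)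
    (hu : Algebra.norm K (u : L) = 1) : ∃ m : ℕ, ¬ p ∣ m ∧ u ^ m ∈ IG K L := by
  classical
  let P : Sylow p (L ≃ₐ[K] L) := default
  let E : IntermediateField K L := IntermediateField.fixedField (P : Subgroup (L ≃ₐ[K] L))
  have hE : Curves.IsCi E 1 := Groth.Agent.S0210.result K E 1 hK
  obtain ⟨n, hn⟩ := IsPGroup.iff_card.mp P.isPGroup'
  have hcEL : Nat.card (L ≃ₐ[E] L) = p ^ n := by
    rw [IsGalois.card_aut_eq_finrank, IntermediateField.finrank_fixedField_eq_card, hn]
  have : Fintype ((L ≃ₐ[K] L) ⧸ (P : Subgroup (L ≃ₐ[K] L))) := Fintype.ofFinite _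
  let v : Lˣ := ∏ q : (L ≃ₐ[K] L) ⧸ (P : Subgroup (L ≃ₐ[K] L)),
    Units.map (((Quotient.out q : L ≃ₐ[K] L)⁻¹ : L ≃ₐ[K] L) : L →* L) u
  have hv : Algebra.norm E (v : L) = 1 := by
    apply (algebraMap E L).injective
    rw [Algebra.norm_eq_prod_automorphisms, map_one]
    have h1 : algebraMap K L (Algebra.norm K (u : L)) = 1 := by rw [hu, map_one]
    rw [Algebra.norm_eq_prod_automorphisms] at h1
    rw [← h1, ← Equiv.prod_comp (Equiv.inv (L ≃ₐ[K] L)) (fun σ => σ (u : L)),
      ← Equiv.prod_comp (Equiv.ofBijective _ (bijective_out_mul (P : Subgroup (L ≃ₐ[K] L)))),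
      Fintype.prod_prod_type_right]
    rw [← Equiv.prod_comp ((Equiv.inv (P : Subgroup (L ≃ₐ[K] L))).trans
      (IntermediateField.subgroupEquivAlgEquiv (P : Subgroup (L ≃ₐ[K] L))).toEquiv)]
    refine Finset.prod_congr rfl fun h _ => ?_
    have h2 : ∀ x : L, ((Equiv.inv (P : Subgroup (L ≃ₐ[K] L))).trans
      (IntermediateField.subgroupEquivAlgEquiv (P : Subgroup (L ≃ₐ[K] L))).toEquiv) h x =
        ((h : L ≃ₐ[K] L)⁻¹ : L ≃ₐ[K] L) x := fun x => rfl
    rw [h2]
    simp only [v, Units.coe_prod, map_prod]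
    refine Finset.prod_congr rfl fun q _ => ?_
    simp only [Equiv.inv_apply, Equiv.ofBijective_apply, mul_inv_rev, AlgEquiv.mul_apply]
    rfl
  have h5 := IG_le E (mem_IG_of_pGroup n E hE hcEL v hv)
  refine ⟨(P : Subgroup (L ≃ₐ[K] L)).index, P.not_dvd_index, ?_⟩
  rw [← QuotientGroup.eq_one_iff] at h5 ⊢
  rw [← h5]
  have h6 : ∀ g : L ≃ₐ[K] L, ((Units.map (g : L →* L) u : Lˣ) : Lˣ ⧸ IG K L) = (u : Lˣ ⧸ IG K L) := by
    intro g
    refine (QuotientGroup.eq_iff_div_mem.mpr (mem_IG u g ?_)).symm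
    rw [Units.val_div_eq_div_val]
    rfl
  have h7 : ((v : Lˣ) : Lˣ ⧸ IG K L) = ∏ q : (L ≃ₐ[K] L) ⧸ (P : Subgroup (L ≃ₐ[K] L)),
      ((Units.map (((Quotient.out q : L ≃ₐ[K] L)⁻¹ : L ≃ₐ[K] L) : L →* L) u : Lˣ) : Lˣ ⧸ IG K L) :=
    map_prod (QuotientGroup.mk' (IG K L)) _ _
  rw [h7, Finset.prod_congr rfl fun q _ => h6 _, Finset.prod_const, Finset.card_univ,
    QuotientGroup.mk_pow, Subgroup.index, Nat.card_eq_fintype_card]

theorem mem_IG_of_norm_eq_one {K L : Type u} [Field K] [Field L] [Algebra K L] [FiniteDimensional K L]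
    [IsGalois K L] (hK : Curves.IsCi K 1) (u : Lˣ)
    (hu : Algebra.norm K (u : L) = 1) : u ∈ IG K L := by
  rw [← QuotientGroup.eq_one_iff, ← orderOf_eq_one_iff, Nat.eq_one_iff_not_exists_prime_dvd]
  intro p hp hdvd
  have : Fact p.Prime := ⟨hp⟩
  obtain ⟨m, hm, hmem⟩ := exists_pow_mem hK (p := p) u hu
  rw [← QuotientGroup.eq_one_iff, QuotientGroup.mk_pow] at hmem
  exact hm (hdvd.trans (orderOf_dvd_of_pow_eq_one hmem))

end K447.NormKer
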