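import Mathlib.RepresentationTheory.Homological.GroupCohomology.LongExactSequence

/-!
# Short exact sequences of representations and group cohomology: elementary criteria
-/

set_option autoImplicit false

universe u

open CategoryTheory Limits

namespace K447.RepSeq

variable {k G : Type u} [CommRing k] [Group G]

/-- A short complex of representations that is exact on elements is short exact. -/
theorem shortExact_of (X : ShortComplex (Rep.{u} k G)) (hf : Function.Injective X.f.hom)
    (hg : Function.Surjective X.g.hom) (hex : ∀ b : X.X₂, X.g.hom b = 0 → ∃ a, X.f.hom a = b) :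
    X.ShortExact := by
  have : Mono X.f := (Rep.mono_iff_injective _).mpr hf
  have : Epi X.g := (Rep.epi_iff_surjective _).mpr hg
  refine { exact := ?_ }
  rw [← ShortComplex.exact_map_iff_of_faithful X (forget₂ (Rep k G) (ModuleCat k)),
    ShortComplex.moduleCat_exact_iff]
  intro b hb
  exact hex b hb

/-- The short exact sequence attached to a surjective map. -/
noncomputable def kerSeq {A B : Rep.{u} k G} (f : A ⟶ B) : ShortComplex (Rep.{u} k G) :=
  ShortComplex.mk (A.subtype (LinearMap.ker f.hom.toLinearMap) (fun g x hx => by
    rw [Submodule.mem_comap, LinearMap.mem_ker]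
    have := Rep.hom_comm_apply f g x
    change f.hom (A.ρ g x) = 0
    rw [this, show f.hom x = 0 from hx, map_zero])) f (by
      ext x
      exact x.2)

theorem kerSeq_shortExact {A B : Rep.{u} k G} (f : A ⟶ B) (hf : Function.Surjective f.hom) :
    (kerSeq f).ShortExact :=
  shortExact_of _ (Submodule.injective_subtype _) hf fun b hb => ⟨⟨b, hb⟩, rfl⟩

section

variable {X : ShortComplex (Rep.{u} k G)} (hX : X.ShortExact) (n : ℕ)

include hX in
theorem injective_of_subsingleton (h1 : Subsingleton (groupCohomology X.X₁ n)) :
    Function.Injective ((groupCohomology.functor k G n).map X.g).hom := by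
  have h := groupCohomology.mapShortComplex₂_exact hX n
  have hz : IsZero (groupCohomology X.X₁ n) := ModuleCat.isZero_of_subsingleton _
  have hm : Mono ((groupCohomology.functor k G n).map X.g) := h.mono_g (hz.eq_of_src _ _)
  exact (ModuleCat.mono_iff_injective _).mp hm

include hX in
theorem surjective_of_subsingleton (h1 : Subsingleton (groupCohomology X.X₁ (n + 1))) :
    Function.Surjective ((groupCohomology.functor k G n).map X.g).hom := by
  have h := groupCohomology.mapShortComplex₃_exact hX (rfl : n + 1 = n + 1)
  have hz : IsZero (groupCohomology X.X₁ (n + 1)) := ModuleCat.isZero_of_subsingleton _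
  have hm : Epi ((groupCohomology.functor k G n).map X.g) := h.epi_f (hz.eq_of_tgt _ _)
  exact (ModuleCat.epi_iff_surjective _).mp hm

include hX in
theorem exists_of_map_eq_zero (x : groupCohomology X.X₂ n)
    (hx : ((groupCohomology.functor k G n).map X.g).hom x = 0) :
    ∃ y : groupCohomology X.X₁ n, ((groupCohomology.functor k G n).map X.f).hom y = x := by
  have h := groupCohomology.mapShortComplex₂_exact hX n
  rw [ShortComplex.moduleCat_exact_iff] at h
  exact h x hx

end

instance (n : ℕ) : (groupCohomology.functor k G n).Additive := by
  have : groupCohomology.functor k G n =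
    groupCohomology.cochainsFunctor k G ⋙ HomologicalComplex.homologyFunctor _ _ n := rfl
  rw [this]
  infer_instance

end K447.RepSeq
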