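import Groth.Agent.Brauer.K440.RedNorm
import Groth.Agent.GalCoh.K447.AlgForms
import Mathlib.Algebra.Central.Matrix

/-!
# Reduced norms on a split base change and the Galois action
-/

set_option autoImplicit false

open scoped TensorProduct

universe u v w

namespace K447.SL1

open K440.RedCP

attribute [local instance] CSAGal.tensorAction CSAGal.matrixAction

section

variable {K : Type v} [Field K] {B : Type w} [Ring B] [Algebra K B]
  [Algebra.IsCentral K B] [IsSimpleRing B] [FiniteDimensional K B]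

theorem redNorm_eq_det {n : ℕ} (ψ : B ≃ₐ[K] Matrix (Fin n) (Fin n) K) (b : B) :
    redNorm K B b = (ψ b).det := by
  have h := algebraMap_redNorm ((Algebra.TensorProduct.lid K B).trans ψ) b
  rw [AlgEquiv.trans_apply, Algebra.TensorProduct.lid_tmul, one_smul] at h
  exact h

end

variable {k : Type u} [Field k] {K : Type v} [Field K] [Algebra k K]

theorem isCentral_of_algEquiv {K : Type u} [Field K] {B : Type v} [Ring B] [Algebra K B] {C : Type w} [Ring C]
    [Algebra K C] [Algebra.IsCentral K C] (e : B ≃ₐ[K] C) : Algebra.IsCentral K B where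
  out x hx := by
    have h : e x ∈ Subalgebra.center K C := by
      rw [Subalgebra.mem_center_iff] at hx ⊢
      intro c
      obtain ⟨b, rfl⟩ := e.surjective c
      rw [← map_mul, ← map_mul, hx b]
    obtain ⟨c, hc⟩ := Algebra.mem_bot.mp (Algebra.IsCentral.out h)
    refine Algebra.mem_bot.mpr ⟨c, e.injective ?_⟩
    rw [AlgEquiv.commutes, hc]

theorem det_smul {n : ℕ} (σ : K ≃ₐ[k] K) (M : Matrix (Fin n) (Fin n) K) : (σ • M).det = σ M.det := by
  have h : σ • M = (σ : K →+* K).mapMatrix M := rfl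
  rw [h, ← RingHom.map_det]
  rfl

variable {A : Type w} [Ring A] [Algebra k A] [Algebra.IsCentral K (K ⊗[k] A)] [IsSimpleRing (K ⊗[k] A)]
  [FiniteDimensional K (K ⊗[k] A)]

theorem redNorm_smul {n : ℕ} (φ : (K ⊗[k] A) ≃ₐ[K] Matrix (Fin n) (Fin n) K) (σ : K ≃ₐ[k] K)
    (t : K ⊗[k] A) : redNorm K (K ⊗[k] A) (σ • t) = σ (redNorm K (K ⊗[k] A) t) := by
  rw [redNorm_eq_det (GalDesc.galConjAlg σ φ), redNorm_eq_det φ, GalDesc.galConjAlg_apply,
    inv_smul_smul, det_smul]

theorem redNorm_one_tmul [Algebra.IsCentral k A] [IsSimpleRing A] [FiniteDimensional k A] {n : ℕ}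
    (φ : (K ⊗[k] A) ≃ₐ[K] Matrix (Fin n) (Fin n) K) (a : A) :
    redNorm K (K ⊗[k] A) (1 ⊗ₜ[k] a) = algebraMap k K (redNorm k A a) := by
  rw [redNorm_eq_det φ, algebraMap_redNorm φ]

end K447.SL1
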