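import Mathlib.RepresentationTheory.Basic
import Mathlib.LinearAlgebra.Dimension.Finrank
import Mathlib.Data.ZMod.Basic
import Mathlib.LinearAlgebra.Basis.Defs
import Mathlib.LinearAlgebra.Basis.VectorSpace
import Mathlib.LinearAlgebra.TensorProduct.Basis
import Mathlib.Algebra.CharP.Two
import Mathlib.Tactic

/-!
# Splitting `S²V → Λ²V` over the field with two elements
-/

set_option autoImplicit false

open scoped TensorProduct

universe u

namespace K447.SymSq

variable (V : Type*) [AddCommGroup V] [Module (ZMod 2) V]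

/-- The span of the `v ⊗ v`. -/
abbrev Na : Submodule (ZMod 2) (V ⊗[ZMod 2] V) :=
  Submodule.span (ZMod 2) (Set.range fun v : V => v ⊗ₜ[ZMod 2] v)

/-- The span of the `x ⊗ y + y ⊗ x`. -/
abbrev Ns : Submodule (ZMod 2) (V ⊗[ZMod 2] V) :=
  Submodule.span (ZMod 2) (Set.range fun p : V × V => p.1 ⊗ₜ[ZMod 2] p.2 + p.2 ⊗ₜ[ZMod 2] p.1)

variable {V}

theorem add_self (x : V) : x + x = 0 := by
  rw [← two_smul (ZMod 2) x, show (2 : ZMod 2) = 0 from rfl, zero_smul]

theorem neg_eq (x : V) : -x = x := by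
  rw [neg_eq_iff_add_eq_zero, add_self]

theorem sub_eq (x y : V) : x - y = x + y := by
  rw [sub_eq_add_neg, neg_eq]

theorem symm_mem_Ns (x y : V) : x ⊗ₜ[ZMod 2] y + y ⊗ₜ[ZMod 2] x ∈ Ns V :=
  Submodule.subset_span ⟨(x, y), rfl⟩

theorem sq_mem_Na (x : V) : x ⊗ₜ[ZMod 2] x ∈ Na V := Submodule.subset_span ⟨x, rfl⟩

theorem symm_mem_Na (x y : V) : x ⊗ₜ[ZMod 2] y + y ⊗ₜ[ZMod 2] x ∈ Na V := by
  have h := (Na V).sub_mem ((Na V).sub_mem (sq_mem_Na (x + y)) (sq_mem_Na x)) (sq_mem_Na y)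
  convert h using 1
  rw [TensorProduct.add_tmul, TensorProduct.tmul_add, TensorProduct.tmul_add]
  abel

theorem Ns_le_Na : Ns V ≤ Na V := by
  rw [Submodule.span_le]
  rintro _ ⟨⟨x, y⟩, rfl⟩
  exact symm_mem_Na x y

/-- The projection onto the diagonal of a basis. -/
noncomputable def diag {ι : Type*} (b : Module.Basis ι (ZMod 2) V) :
    V ⊗[ZMod 2] V →ₗ[ZMod 2] V ⊗[ZMod 2] V :=
  open scoped Classical in
  (b.tensorProduct b).constr (ZMod 2) fun p => if p.1 = p.2 then b p.1 ⊗ₜ[ZMod 2] b p.2 else 0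

section diag

variable {ι : Type*} (b : Module.Basis ι (ZMod 2) V)

open scoped Classical in
theorem diag_apply (i j : ι) :
    diag b (b i ⊗ₜ[ZMod 2] b j) = if i = j then b i ⊗ₜ[ZMod 2] b j else 0 := by
  have h := (b.tensorProduct b).constr_basis (ZMod 2)
    (fun p => if p.1 = p.2 then b p.1 ⊗ₜ[ZMod 2] b p.2 else 0) (i, j)
  rw [Module.Basis.tensorProduct_apply] at h
  exact h

theorem tensor_ext {M : Type*} [AddCommGroup M] [Module (ZMod 2) M]
    {f f' : V ⊗[ZMod 2] V →ₗ[ZMod 2] M}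
    (h : ∀ i j, f (b i ⊗ₜ[ZMod 2] b j) = f' (b i ⊗ₜ[ZMod 2] b j)) : f = f' :=
  (b.tensorProduct b).ext fun p => by
    rw [Module.Basis.tensorProduct_apply']
    exact h _ _

theorem diag_symm (x y : V) : diag b (x ⊗ₜ[ZMod 2] y) = diag b (y ⊗ₜ[ZMod 2] x) := by
  classical
  have h : diag b = diag b ∘ₗ (TensorProduct.comm (ZMod 2) V V).toLinearMap :=
    tensor_ext b fun i j => by
      rw [LinearMap.comp_apply, LinearEquiv.coe_coe, TensorProduct.comm_tmul, diag_apply, diag_apply]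
      by_cases hij : i = j
      · subst hij; rfl
      · rw [if_neg hij, if_neg (Ne.symm hij)]
  have h1 := LinearMap.congr_fun h (x ⊗ₜ y)
  rwa [LinearMap.comp_apply, LinearEquiv.coe_coe, TensorProduct.comm_tmul] at h1

theorem diag_diag (t : V ⊗[ZMod 2] V) : diag b (diag b t) = diag b t := by
  classical
  have h : diag b ∘ₗ diag b = diag b :=
    tensor_ext b fun i j => by
      rw [LinearMap.comp_apply, diag_apply]
      split_ifs with hij
      · rw [diag_apply, if_pos hij]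
      · rw [map_zero]
  exact LinearMap.congr_fun h t

theorem diag_mem_Na (t : V ⊗[ZMod 2] V) : diag b t ∈ Na V := by
  classical
  have h : (Na V).mkQ ∘ₗ diag b = 0 :=
    tensor_ext b fun i j => by
      rw [LinearMap.comp_apply, diag_apply, LinearMap.zero_apply]
      split_ifs with hij
      · subst hij
        rw [Submodule.mkQ_apply, Submodule.Quotient.mk_eq_zero]
        exact sq_mem_Na _
      · rw [map_zero]
  have h1 := LinearMap.congr_fun h t
  rwa [LinearMap.comp_apply, LinearMap.zero_apply, Submodule.mkQ_apply,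
    Submodule.Quotient.mk_eq_zero] at h1

theorem sub_diag_mem (v : V) : v ⊗ₜ[ZMod 2] v - diag b (v ⊗ₜ[ZMod 2] v) ∈ Ns V := by
  classical
  induction b.mem_span v using Submodule.span_induction with
  | zero => rw [TensorProduct.zero_tmul, map_zero, sub_zero]; exact Submodule.zero_mem _
  | add x y _ _ hx hy =>
    have h := (Ns V).add_mem ((Ns V).add_mem hx hy) (symm_mem_Ns x y)
    convert h using 1
    rw [TensorProduct.add_tmul, TensorProduct.tmul_add, TensorProduct.tmul_add, map_add, map_add, map_add,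
      diag_symm b y x]
    have := add_self (diag b (x ⊗ₜ[ZMod 2] y))
    rw [← sub_eq_zero] at this ⊢
    rw [sub_zero] at this
    rw [← neg_eq_zero, ← this]
    abel
  | smul c x _ hx =>
    rw [TensorProduct.smul_tmul_smul, map_smul, ← smul_sub]
    exact Submodule.smul_mem _ _ hx
  | mem x hx =>
    obtain ⟨i, rfl⟩ := hx
    rw [diag_apply, if_pos rfl, sub_self]
    exact Submodule.zero_mem _

theorem sub_diag_mem_of_mem_Na {t : V ⊗[ZMod 2] V} (ht : t ∈ Na V) : t - diag b t ∈ Ns V := by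
  induction ht using Submodule.span_induction with
  | zero => rw [map_zero, sub_zero]; exact Submodule.zero_mem _
  | add x y _ _ hx hy =>
    rw [map_add, add_sub_add_comm]
    exact Submodule.add_mem _ hx hy
  | smul c x _ hx =>
    rw [map_smul, ← smul_sub]
    exact Submodule.smul_mem _ _ hx
  | mem x hx =>
    obtain ⟨v, rfl⟩ := hx
    exact sub_diag_mem b v

theorem diag_symm_add (x y : V) : diag b (x ⊗ₜ[ZMod 2] y + y ⊗ₜ[ZMod 2] x) = 0 := by
  rw [map_add, diag_symm b y x, add_self]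

theorem diag_map (f : V →ₗ[ZMod 2] V) (hf : Function.Injective f) (hb : ∀ i, ∃ j, f (b i) = b j)
    (t : V ⊗[ZMod 2] V) :
    diag b (TensorProduct.map f f t) = TensorProduct.map f f (diag b t) := by
  classical
  have h : diag b ∘ₗ TensorProduct.map f f = TensorProduct.map f f ∘ₗ diag b :=
    tensor_ext b fun i j => by
      obtain ⟨i', hi'⟩ := hb i
      obtain ⟨j', hj'⟩ := hb j
      rw [LinearMap.comp_apply, LinearMap.comp_apply, TensorProduct.map_tmul, hi', hj', diag_apply,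
        diag_apply]
      have hiff : i' = j' ↔ i = j := by
        constructor
        · rintro rfl
          exact b.injective (hf (hi'.trans hj'.symm))
        · rintro rfl
          exact b.injective (hi'.symm.trans hj')
      by_cases hij : i = j
      · rw [if_pos hij, if_pos (hiff.mpr hij), TensorProduct.map_tmul, hi', hj']
      · rw [if_neg hij, if_neg (fun h => hij (hiff.mp h)), map_zero]
  exact LinearMap.congr_fun h t

end diag

theorem splits_of_basis {G : Type*} [Group G] (ρ : Representation (ZMod 2) G V)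
    {ι : Type*} (b : Module.Basis ι (ZMod 2) V) (hb : ∀ g : G, ∀ i : ι, ∃ j : ι, ρ g (b i) = b j) :
    ∃ W : Submodule (ZMod 2) (V ⊗[ZMod 2] V),
      (∀ g : G, ∀ w ∈ W, ρ.tprod ρ g w ∈ W) ∧ W ⊓ Na V = Ns V ∧ W ⊔ Na V = ⊤ := by
  refine ⟨LinearMap.ker (diag b), fun g w hw => ?_, le_antisymm ?_ ?_, ?_⟩
  · rw [LinearMap.mem_ker] at hw ⊢
    rw [Representation.tprod_apply, diag_map b _ (ρ.apply_bijective g).1 (hb g), hw, map_zero]
  · rintro t ⟨h1, h2⟩
    have h3 := sub_diag_mem_of_mem_Na b h2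
    rwa [LinearMap.mem_ker.mp h1, sub_zero] at h3
  · refine le_inf ?_ Ns_le_Na
    rw [Submodule.span_le]
    rintro _ ⟨⟨x, y⟩, rfl⟩
    exact diag_symm_add b x y
  · rw [eq_top_iff]
    rintro t -
    have h : t = (t - diag b t) + diag b t := by abel
    rw [h]
    refine Submodule.add_mem_sup ?_ (diag_mem_Na b t)
    rw [LinearMap.mem_ker, map_sub, diag_diag, sub_self]

/-- An involution of a vector space over the field with two elements permutes a basis. -/
theorem exists_basis_of_involution {V : Type u} [AddCommGroup V] [Module (ZMod 2) V] (σ : V →ₗ[ZMod 2] V) (hσ : ∀ v, σ (σ v) = v) :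
    ∃ (ι : Type u) (b : Module.Basis ι (ZMod 2) V), ∀ i, ∃ j, σ (b i) = b j := by
  let N : V →ₗ[ZMod 2] V := σ + LinearMap.id
  have hN : ∀ v, N v = σ v + v := fun v => rfl
  have hNσ : ∀ v, N (σ v) = N v := fun v => by rw [hN, hN, hσ, add_comm]
  have hNN : ∀ v, N (N v) = 0 := fun v => by
    rw [hN v, map_add, hNσ, add_self]
  obtain ⟨U, hU⟩ := (LinearMap.ker N).exists_isCompl
  obtain ⟨Z', hZ'⟩ := (LinearMap.range N).exists_isCompl
  let Z : Submodule (ZMod 2) V := Z' ⊓ LinearMap.ker N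
  have hZ1 : ∀ z : Z, N z = 0 := fun z => z.2.2
  have hdec : ∀ κ, N κ = 0 → ∃ (w : V) (z : Z), κ = N w + z := by
    intro κ hκ
    have h1 : κ ∈ LinearMap.range N ⊔ Z' := by rw [hZ'.sup_eq_top]; trivial
    obtain ⟨_, ⟨w, rfl⟩, z, hz, hwz⟩ := Submodule.mem_sup.mp h1
    refine ⟨w, ⟨z, hz, ?_⟩, hwz.symm⟩
    have h2 : N (N w + z) = 0 := by rw [hwz, hκ]
    rwa [map_add, hNN, zero_add] at h2
  have hdec' : ∀ v : V, ∃ (u : U) (κ : V), N κ = 0 ∧ v = κ + u := by
    intro v
    have h1 : v ∈ LinearMap.ker N ⊔ U := by rw [hU.sup_eq_top]; trivial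
    obtain ⟨κ, hκ, u, hu, h⟩ := Submodule.mem_sup.mp h1
    exact ⟨⟨u, hu⟩, κ, hκ, h.symm⟩
  let φ : ((U × U) × Z) →ₗ[ZMod 2] V :=
    LinearMap.coprod (LinearMap.coprod U.subtype (σ ∘ₗ U.subtype)) Z.subtype
  have hφ : ∀ u u' z, φ ((u, u'), z) = u + σ u' + z := fun u u' z => rfl
  have hUker : ∀ u : U, N u = 0 → u = 0 := fun u hu => by
    have : (u : V) ∈ LinearMap.ker N ⊓ U := ⟨hu, u.2⟩
    rw [hU.inf_eq_bot, Submodule.mem_bot] at this
    exact Subtype.ext this
  have hinj : Function.Injective φ := by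
    rw [← LinearMap.ker_eq_bot, LinearMap.ker_eq_bot']
    rintro ⟨⟨u, u'⟩, z⟩ h
    rw [hφ] at h
    have h1 : N ((u + u' : U) : V) = 0 := by
      have := congrArg N h
      rwa [map_add, map_add, hNσ, hZ1, add_zero, map_zero, ← map_add] at this
    have h2 : u = u' := by
      have := hUker _ h1
      rw [add_eq_zero_iff_eq_neg] at this
      rw [this]
      exact Subtype.ext (by rw [Submodule.coe_neg, neg_eq])
    subst h2
    have h3 : N (u : V) + z = 0 := by rw [hN, add_comm (σ (u : V))]; exact h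
    have h4 : (z : V) ∈ LinearMap.range N ⊓ Z' := by
      refine ⟨⟨u, ?_⟩, z.2.1⟩
      rw [eq_neg_of_add_eq_zero_left h3, neg_eq]
    rw [hZ'.inf_eq_bot, Submodule.mem_bot] at h4
    have h5 : z = 0 := Subtype.ext h4
    rw [h4, add_zero] at h3
    rw [hUker u h3, h5]
    rfl
  have hsurj : Function.Surjective φ := by
    intro v
    obtain ⟨u, κ, hκ, rfl⟩ := hdec' v
    obtain ⟨w, z, rfl⟩ := hdec κ hκ
    obtain ⟨u₁, κ₁, hκ₁, rfl⟩ := hdec' w
    refine ⟨((u + u₁, u₁), z), ?_⟩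
    rw [hφ, map_add, hκ₁, zero_add, hN, Submodule.coe_add]
    abel
  let bU := Module.Basis.ofVectorSpace (ZMod 2) U
  let bZ := Module.Basis.ofVectorSpace (ZMod 2) Z
  let e : ((U × U) × Z) ≃ₗ[ZMod 2] V := LinearEquiv.ofBijective φ ⟨hinj, hsurj⟩
  have he : ∀ x, e x = φ x := fun _ => rfl
  refine ⟨_, ((bU.prod bU).prod bZ).map e, ?_⟩
  rintro ((i | i) | i)
  · refine ⟨Sum.inl (Sum.inr i), ?_⟩
    simp [he, hφ, Module.Basis.prod_apply]
  · refine ⟨Sum.inl (Sum.inl i), ?_⟩
    simp [he, hφ, Module.Basis.prod_apply, hσ]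
  · refine ⟨Sum.inr i, ?_⟩
    have h1 := hZ1 (bZ i)
    rw [hN, add_eq_zero_iff_eq_neg, neg_eq] at h1
    simp [he, hφ, Module.Basis.prod_apply, h1]

/-! ### The quadratic element `x ⊗ x + x ⊗ y + y ⊗ y` -/

/-- `x² + xy + y²` -/
noncomputable def q (x y : V) : V ⊗[ZMod 2] V := x ⊗ₜ x + x ⊗ₜ y + y ⊗ₜ y

/-- `xy + yx` -/
noncomputable def s (x y : V) : V ⊗[ZMod 2] V := x ⊗ₜ y + y ⊗ₜ x

theorem coef (c : ZMod 2) : c = 0 ∨ c = 1 := by
  revert c; decide

theorem mem_span_pair' {x y v : V} (h : v ∈ Submodule.span (ZMod 2) {x, y}) :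
    v = 0 ∨ v = x ∨ v = y ∨ v = x + y := by
  obtain ⟨a, b, rfl⟩ := Submodule.mem_span_pair.mp h
  rcases coef a with rfl | rfl <;> rcases coef b with rfl | rfl <;> simp

theorem map_q_s (f : V →ₗ[ZMod 2] V) (hf : Function.Injective f) {x y : V} (hx : x ≠ 0) (hy : y ≠ 0)
    (hxy : x ≠ y) (hfx : f x ∈ Submodule.span (ZMod 2) {x, y})
    (hfy : f y ∈ Submodule.span (ZMod 2) {x, y}) :
    (TensorProduct.map f f (q x y) = q x y ∨ TensorProduct.map f f (q x y) = q x y + s x y) ∧
      TensorProduct.map f f (s x y) = s x y := by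
  have h1 : f x ≠ 0 := fun h => hx (hf (by rw [h, map_zero]))
  have h2 : f y ≠ 0 := fun h => hy (hf (by rw [h, map_zero]))
  have h3 : f x ≠ f y := fun h => hxy (hf h)
  have hq : TensorProduct.map f f (q x y) = q (f x) (f y) := by simp [q]
  have hs : TensorProduct.map f f (s x y) = s (f x) (f y) := by simp [s]
  rw [hq, hs]
  rcases mem_span_pair' hfx with h | h | h | h <;> rcases mem_span_pair' hfy with h' | h' | h' | h' <;>
    rw [h] at h1 h3 ⊢ <;> rw [h'] at h2 h3 ⊢ <;> first | exact absurd rfl h1 | exact absurd rfl h2 | exact absurd rfl h3 | skip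
  all_goals simp only [q, s, TensorProduct.add_tmul, TensorProduct.tmul_add]
  all_goals
    generalize x ⊗ₜ[ZMod 2] x = A at *
    generalize x ⊗ₜ[ZMod 2] y = B at *
    generalize y ⊗ₜ[ZMod 2] x = C at *
    generalize y ⊗ₜ[ZMod 2] y = D at *
    clear hq hs
    rw [← one_smul (ZMod 2) A, ← one_smul (ZMod 2) B, ← one_smul (ZMod 2) C, ← one_smul (ZMod 2) D]
    constructor
    · first
        | (left; trivial)
        | (left; match_scalars <;> decide)
        | (right; match_scalars <;> decide)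
    · first
        | trivial
        | (match_scalars <;> decide)

/-- The alternating functional attached to two linear forms. -/
noncomputable def lam (φ ψ : V →ₗ[ZMod 2] ZMod 2) : V ⊗[ZMod 2] V →ₗ[ZMod 2] ZMod 2 :=
  LinearMap.mul' (ZMod 2) (ZMod 2) ∘ₗ TensorProduct.map φ ψ +
    LinearMap.mul' (ZMod 2) (ZMod 2) ∘ₗ TensorProduct.map ψ φ

theorem lam_tmul (φ ψ : V →ₗ[ZMod 2] ZMod 2) (v w : V) :
    lam φ ψ (v ⊗ₜ w) = φ v * ψ w + ψ v * φ w := rfl

theorem lam_Na (φ ψ : V →ₗ[ZMod 2] ZMod 2) {t : V ⊗[ZMod 2] V} (ht : t ∈ Na V) : lam φ ψ t = 0 := by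
  have h : Na V ≤ LinearMap.ker (lam φ ψ) := by
    rw [Submodule.span_le]
    rintro _ ⟨v, rfl⟩
    change lam φ ψ (v ⊗ₜ v) = 0
    rw [lam_tmul, mul_comm (ψ v), CharTwo.add_self_eq_zero]
  exact h ht

theorem exists_form {x : V} {p : Submodule (ZMod 2) V} (h : x ∉ p) :
    ∃ φ : V →ₗ[ZMod 2] ZMod 2, φ x = 1 ∧ ∀ y ∈ p, φ y = 0 := by
  obtain ⟨f, hf, hp⟩ := Submodule.exists_le_ker_of_notMem h
  exact ⟨f, (coef (f x)).resolve_left hf, fun y hy => hp hy⟩

theorem mem_span_pair_iff {x y v : V} :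
    v ∈ Submodule.span (ZMod 2) {x, y} ↔ v = 0 ∨ v = x ∨ v = y ∨ v = x + y := by
  refine ⟨mem_span_pair', ?_⟩
  have hx : x ∈ Submodule.span (ZMod 2) {x, y} := Submodule.subset_span (by simp)
  have hy : y ∈ Submodule.span (ZMod 2) {x, y} := Submodule.subset_span (by simp)
  rintro (rfl | rfl | rfl | rfl)
  · exact Submodule.zero_mem _
  · exact hx
  · exact hy
  · exact Submodule.add_mem _ hx hy

theorem mem_plane {v w v' w' : V} (hv : v ≠ 0) (hw : w ≠ 0) (hvw : v ≠ w)
    (h : v' ⊗ₜ[ZMod 2] w' - v ⊗ₜ[ZMod 2] w ∈ Na V) : v' ∈ Submodule.span (ZMod 2) {v, w} := by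
  by_contra hmem
  have h1 : v ∉ Submodule.span (ZMod 2) {w, v'} := by
    intro h
    apply hmem
    rw [mem_span_pair_iff] at h ⊢
    rcases h with h | h | h | h
    · exact absurd h hv
    · exact absurd h hvw
    · exact Or.inr (Or.inl h.symm)
    · right; right; right
      rw [h, add_assoc, add_comm v' w, ← add_assoc, add_self, zero_add]
  have h2 : w ∉ Submodule.span (ZMod 2) {v, v'} := by
    intro h
    apply hmem
    rw [mem_span_pair_iff] at h ⊢
    rcases h with h | h | h | h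
    · exact absurd h hw
    · exact absurd h.symm hvw
    · exact Or.inr (Or.inr (Or.inl h.symm))
    · right; right; right
      rw [h, ← add_assoc, add_self, zero_add]
  obtain ⟨φ, hφ1, hφ⟩ := exists_form h1
  obtain ⟨ψ, hψ1, hψ⟩ := exists_form h2
  have h3 := lam_Na φ ψ h
  rw [map_sub, lam_tmul, lam_tmul, hφ v' (Submodule.subset_span (by simp)),
    hψ v' (Submodule.subset_span (by simp)), hφ w (Submodule.subset_span (by simp)),
    hψ v (Submodule.subset_span (by simp)), hφ1, hψ1] at h3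
  simp at h3

theorem swap_mem_Na {v w v' w' : V} (h : v' ⊗ₜ[ZMod 2] w' - v ⊗ₜ[ZMod 2] w ∈ Na V) :
    w' ⊗ₜ[ZMod 2] v' - w ⊗ₜ[ZMod 2] v ∈ Na V := by
  have h1 := (Na V).sub_mem ((Na V).sub_mem (symm_mem_Na v' w') (symm_mem_Na v w)) h
  convert h1 using 1
  abel

theorem map_mem_Na (f : V →ₗ[ZMod 2] V) {t : V ⊗[ZMod 2] V} (ht : t ∈ Na V) :
    TensorProduct.map f f t ∈ Na V := by
  have h : Na V ≤ (Na V).comap (TensorProduct.map f f) := by
    rw [Submodule.span_le]
    rintro _ ⟨v, rfl⟩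
    change TensorProduct.map f f (v ⊗ₜ v) ∈ Na V
    rw [TensorProduct.map_tmul]
    exact sq_mem_Na _
  exact h ht

theorem exists_tmul (hV : Module.finrank (ZMod 2) V = 3) (t : V ⊗[ZMod 2] V) :
    ∃ v w : V, t - v ⊗ₜ w ∈ Na V := by
  have : Module.Finite (ZMod 2) V := Module.finite_of_finrank_pos (by omega)
  let b : Module.Basis (Fin 3) (ZMod 2) V := Module.finBasisOfFinrankEq _ _ hV
  have hred : ∀ t : V ⊗[ZMod 2] V, ∃ α β γ : ZMod 2,
      t - (α • (b 0 ⊗ₜ b 1) + β • (b 0 ⊗ₜ b 2) + γ • (b 1 ⊗ₜ b 2)) ∈ Na V := by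
    intro t
    induction (b.tensorProduct b).mem_span t using Submodule.span_induction with
    | zero => exact ⟨0, 0, 0, by simp⟩
    | add x y _ _ hx hy =>
      obtain ⟨α, β, γ, h⟩ := hx
      obtain ⟨α', β', γ', h'⟩ := hy
      refine ⟨α + α', β + β', γ + γ', ?_⟩
      convert (Na V).add_mem h h' using 1
      module
    | smul c x _ hx =>
      obtain ⟨α, β, γ, h⟩ := hx
      refine ⟨c * α, c * β, c * γ, ?_⟩
      convert (Na V).smul_mem c h using 1
      module
    | mem x hx =>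
      obtain ⟨⟨i, j⟩, rfl⟩ := hx
      rw [Module.Basis.tensorProduct_apply]
      fin_cases i <;> fin_cases j
      · exact ⟨0, 0, 0, by simpa using sq_mem_Na (b 0)⟩
      · exact ⟨1, 0, 0, by simp⟩
      · exact ⟨0, 1, 0, by simp⟩
      · exact ⟨1, 0, 0, by simpa [sub_eq] using symm_mem_Na (b 1) (b 0)⟩
      · exact ⟨0, 0, 0, by simpa using sq_mem_Na (b 1)⟩
      · exact ⟨0, 0, 1, by simp⟩
      · exact ⟨0, 1, 0, by simpa [sub_eq] using symm_mem_Na (b 2) (b 0)⟩
      · exact ⟨0, 0, 1, by simpa [sub_eq] using symm_mem_Na (b 2) (b 1)⟩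
      · exact ⟨0, 0, 0, by simpa using sq_mem_Na (b 2)⟩
  obtain ⟨α, β, γ, h⟩ := hred t
  rcases coef α with rfl | rfl
  · refine ⟨β • b 0 + γ • b 1, b 2, ?_⟩
    convert h using 1
    simp only [TensorProduct.add_tmul, ← TensorProduct.smul_tmul']
    module
  · refine ⟨b 0 + γ • b 2, b 1 + β • b 2, ?_⟩
    have h1 := (Na V).smul_mem γ (symm_mem_Na (b 1) (b 2))
    have h2 := (Na V).smul_mem (γ * β) (sq_mem_Na (b 2))
    have h3 := (Na V).sub_mem ((Na V).add_mem h h1) h2
    have h4 : γ • b 2 ⊗ₜ[ZMod 2] b 1 + γ • b 2 ⊗ₜ[ZMod 2] b 1 = 0 := add_self _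
    have h5 : t - (b 0 + γ • b 2) ⊗ₜ[ZMod 2] (b 1 + β • b 2) =
        t - ((1 : ZMod 2) • (b 0 ⊗ₜ b 1) + β • (b 0 ⊗ₜ b 2) + γ • (b 1 ⊗ₜ b 2)) +
          γ • (b 1 ⊗ₜ b 2 + b 2 ⊗ₜ b 1) - (γ * β) • (b 2 ⊗ₜ b 2) := by
      simp only [TensorProduct.add_tmul, TensorProduct.tmul_add, ← TensorProduct.smul_tmul',
        TensorProduct.tmul_smul]
      rw [← sub_eq_zero, ← neg_eq_zero, ← h4]
      module
    rw [h5]
    exact h3

theorem q_sub_mem_Na (v w : V) : q v w - v ⊗ₜ w ∈ Na V := by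
  convert (Na V).add_mem (sq_mem_Na v) (sq_mem_Na w) using 1
  simp only [q]
  abel

theorem tmul_mem_Na {v w : V} (h : v = 0 ∨ w = 0 ∨ v = w) : v ⊗ₜ[ZMod 2] w ∈ Na V := by
  rcases h with rfl | rfl | rfl
  · rw [TensorProduct.zero_tmul]; exact Submodule.zero_mem _
  · rw [TensorProduct.tmul_zero]; exact Submodule.zero_mem _
  · exact sq_mem_Na _

theorem lifts_of_finrank_eq_three {G : Type*} [Group G] (hV : Module.finrank (ZMod 2) V = 3)
    (ρ : Representation (ZMod 2) G V) (t : V ⊗[ZMod 2] V)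
    (ht : ∀ g : G, ρ.tprod ρ g t - t ∈ Na V) :
    ∃ t' : V ⊗[ZMod 2] V, t' - t ∈ Na V ∧ ∀ g : G, ρ.tprod ρ g t' - t' ∈ Ns V := by
  obtain ⟨v, w, hvw⟩ := exists_tmul hV t
  by_cases hdeg : v = 0 ∨ w = 0 ∨ v = w
  · refine ⟨0, ?_, fun g => by rw [map_zero, sub_zero]; exact Submodule.zero_mem _⟩
    rw [zero_sub, neg_mem_iff]
    have h := (Na V).add_mem hvw (tmul_mem_Na hdeg)
    rwa [sub_add_cancel] at h
  · push Not at hdeg
    obtain ⟨hv, hw, hne⟩ := hdeg
    refine ⟨q v w, ?_, fun g => ?_⟩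
    · have h := (Na V).sub_mem (q_sub_mem_Na v w) hvw
      convert h using 1
      abel
    · have h1 := ht g
      rw [Representation.tprod_apply] at h1 ⊢
      have h2 := map_mem_Na (ρ g) hvw
      rw [map_sub, TensorProduct.map_tmul] at h2
      have h3 : (ρ g v) ⊗ₜ[ZMod 2] (ρ g w) - v ⊗ₜ w ∈ Na V := by
        convert (Na V).add_mem ((Na V).sub_mem h1 h2) hvw using 1
        abel
      have h4 := mem_plane hv hw hne h3
      have h5 := mem_plane hw hv (Ne.symm hne) (swap_mem_Na h3)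
      rw [Set.pair_comm] at h5
      have h6 := (map_q_s (ρ g) (ρ.apply_bijective g).1 hv hw hne h4 h5).1
      rcases h6 with h6 | h6
      · rw [h6, sub_self]; exact Submodule.zero_mem _
      · rw [h6, add_sub_cancel_left]; exact symm_mem_Ns _ _

theorem symm_eq {x y v w : V} (hv : v ∈ Submodule.span (ZMod 2) {x, y})
    (hw : w ∈ Submodule.span (ZMod 2) {x, y}) : s v w = 0 ∨ s v w = s x y := by
  rcases mem_span_pair' hv with h | h | h | h <;> rcases mem_span_pair' hw with h' | h' | h' | h' <;>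
    rw [h, h'] <;> simp only [s, TensorProduct.add_tmul, TensorProduct.tmul_add,
      TensorProduct.zero_tmul, TensorProduct.tmul_zero]
  all_goals
    generalize x ⊗ₜ[ZMod 2] x = A at *
    generalize x ⊗ₜ[ZMod 2] y = B at *
    generalize y ⊗ₜ[ZMod 2] x = C at *
    generalize y ⊗ₜ[ZMod 2] y = D at *
    try rw [← one_smul (ZMod 2) A]
    try rw [← one_smul (ZMod 2) B]
    try rw [← one_smul (ZMod 2) C]
    try rw [← one_smul (ZMod 2) D]
    first
      | (left; simp; done)
      | (left; match_scalars <;> decide)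
      | (right; trivial)
      | (right; match_scalars <;> decide)

theorem splits_of_finrank_eq_two {G : Type*} [Group G] (hV : Module.finrank (ZMod 2) V = 2)
    (ρ : Representation (ZMod 2) G V) :
    ∃ W : Submodule (ZMod 2) (V ⊗[ZMod 2] V),
      (∀ g : G, ∀ w ∈ W, ρ.tprod ρ g w ∈ W) ∧ W ⊓ Na V = Ns V ∧ W ⊔ Na V = ⊤ := by
  have : Module.Finite (ZMod 2) V := Module.finite_of_finrank_pos (by omega)
  let b : Module.Basis (Fin 2) (ZMod 2) V := Module.finBasisOfFinrankEq _ _ hV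
  set x := b 0 with hx
  set y := b 1 with hy
  have hspan : ∀ v, v ∈ Submodule.span (ZMod 2) {x, y} := fun v => by
    have h := b.mem_span v
    have h2 : Set.range b = {x, y} := by
      ext v
      simp [hx, hy, eq_comm]
    rwa [h2] at h
  have hx0 : x ≠ 0 := b.ne_zero 0
  have hy0 : y ≠ 0 := b.ne_zero 1
  have hxy : x ≠ y := fun h => by
    have := b.injective h
    simp at this
  have hlam : lam (b.coord 0) (b.coord 1) (q x y) = 1 := by
    simp [q, lam_tmul, hx, hy]
  refine ⟨Submodule.span (ZMod 2) {q x y, s x y}, fun g w hw => ?_, le_antisymm ?_ (le_inf ?_ Ns_le_Na), ?_⟩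
  · obtain ⟨α, β, rfl⟩ := Submodule.mem_span_pair.mp hw
    have h := map_q_s (ρ g) (ρ.apply_bijective g).1 hx0 hy0 hxy (hspan _) (hspan _)
    have hq : q x y ∈ Submodule.span (ZMod 2) {q x y, s x y} := Submodule.subset_span (by simp)
    have hs : s x y ∈ Submodule.span (ZMod 2) {q x y, s x y} := Submodule.subset_span (by simp)
    rw [Representation.tprod_apply, map_add, map_smul, map_smul, h.2]
    refine Submodule.add_mem _ (Submodule.smul_mem _ _ ?_) (Submodule.smul_mem _ _ hs)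
    rcases h.1 with h | h
    · rw [h]; exact hq
    · rw [h]; exact Submodule.add_mem _ hq hs
  · rintro t ⟨h1, h2⟩
    obtain ⟨α, β, rfl⟩ := Submodule.mem_span_pair.mp h1
    have h3 := lam_Na (b.coord 0) (b.coord 1) h2
    have h4 : lam (b.coord 0) (b.coord 1) (s x y) = 0 :=
      lam_Na _ _ (symm_mem_Na x y)
    rw [map_add, map_smul, map_smul, hlam, h4, smul_zero, add_zero, smul_eq_mul, mul_one] at h3
    rw [h3, zero_smul, zero_add]
    exact Submodule.smul_mem _ _ (symm_mem_Ns x y)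
  · rw [Submodule.span_le]
    rintro _ ⟨⟨v, w⟩, rfl⟩
    rcases symm_eq (hspan v) (hspan w) with h | h
    · change s v w ∈ _
      rw [h]; exact Submodule.zero_mem _
    · change s v w ∈ _
      rw [h]; exact Submodule.subset_span (by simp)
  · rw [eq_top_iff]
    rintro t -
    set S := Submodule.span (ZMod 2) {q x y, s x y} ⊔ Na V with hS
    have hNS : Na V ≤ S := le_sup_right
    have hqS : q x y ∈ S := le_sup_left (a := Submodule.span (ZMod 2) {q x y, s x y})
      (Submodule.subset_span (by simp))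
    have hsS : s x y ∈ S := le_sup_left (a := Submodule.span (ZMod 2) {q x y, s x y})
      (Submodule.subset_span (by simp))
    have hxy : x ⊗ₜ[ZMod 2] y ∈ S := by
      convert S.sub_mem hqS (hNS (q_sub_mem_Na x y)) using 1
      abel
    have hyx : y ⊗ₜ[ZMod 2] x ∈ S := by
      convert S.sub_mem hsS hxy using 1
      simp only [s]
      abel
    induction (b.tensorProduct b).mem_span t using Submodule.span_induction with
    | zero => exact Submodule.zero_mem _
    | add x y _ _ hx hy => exact Submodule.add_mem _ hx hy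
    | smul c x _ hx => exact Submodule.smul_mem _ _ hx
    | mem x hx =>
      obtain ⟨⟨i, j⟩, rfl⟩ := hx
      rw [Module.Basis.tensorProduct_apply]
      fin_cases i <;> fin_cases j
      · exact hNS (sq_mem_Na _)
      · exact hxy
      · exact hyx
      · exact hNS (sq_mem_Na _)

end K447.SymSq
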