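import Groth.Agent.GalCoh.K447.RepSeq
import Mathlib.FieldTheory.IsSepClosed
import Mathlib.RingTheory.RootsOfUnity.EnoughRootsOfUnity
import Mathlib.Algebra.CharP.Defs
import Mathlib.Tactic

/-!
# `H²(Q, kˣ)` for the trivial action
-/

set_option autoImplicit false

open CategoryTheory

namespace K447.TrivH2

variable (Q : Type) [Group Q]

/-- The map of trivial representations attached to a homomorphism. -/
noncomputable abbrev tr {A B : Type} [AddCommGroup A] [AddCommGroup B] (f : A →+ B) :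
    Rep.trivial ℤ Q A ⟶ Rep.trivial ℤ Q B :=
  Rep.ofHom ⟨f.toIntLinearMap, fun _ => rfl⟩

/-- The induced map on cohomology. -/
noncomputable def H {A B : Type} [AddCommGroup A] [AddCommGroup B] (f : A →+ B) (n : ℕ)
    (x : groupCohomology (Rep.trivial ℤ Q A) n) : groupCohomology (Rep.trivial ℤ Q B) n :=
  ((groupCohomology.functor ℤ Q n).map (tr Q f)).hom x

variable {Q}

theorem H_comp {A B C : Type} [AddCommGroup A] [AddCommGroup B] [AddCommGroup C] (f : A →+ B) (g : B →+ C)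
    (n : ℕ) (x : groupCohomology (Rep.trivial ℤ Q A) n) :
    H Q (g.comp f) n x = H Q g n (H Q f n x) := by
  have h : tr Q (g.comp f) = tr Q f ≫ tr Q g := rfl
  unfold H
  rw [h, Functor.map_comp]
  rfl

theorem H_zero {A B : Type} [AddCommGroup A] [AddCommGroup B] (f : A →+ B)
    (n : ℕ) : H Q f n 0 = 0 := map_zero _

theorem H_nsmul {A : Type} [AddCommGroup A] (m : ℕ)
    (n : ℕ) (x : groupCohomology (Rep.trivial ℤ Q A) n) :
    H Q (m • AddMonoidHom.id A) n x = m • x := by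
  have h : tr Q (m • AddMonoidHom.id A) = m • 𝟙 (Rep.trivial ℤ Q A) := by
    rw [← Rep.ofHom_id, ← Rep.ofHom_nsmul]
    refine congrArg Rep.ofHom ?_
    ext x
    rfl
  have h2 : (groupCohomology.functor ℤ Q n).map (tr Q (m • AddMonoidHom.id A)) =
      m • 𝟙 ((groupCohomology.functor ℤ Q n).obj (Rep.trivial ℤ Q A)) := by
    rw [h, Functor.map_nsmul, CategoryTheory.Functor.map_id]
  unfold H
  rw [h2]
  rfl

/-- A short exact sequence of abelian groups. -/
theorem shortExact {A B C : Type} [AddCommGroup A] [AddCommGroup B] [AddCommGroup C] (f : A →+ B) (g : B →+ C)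
    (hf : Function.Injective f) (hg : Function.Surjective g) (hfg : ∀ a, g (f a) = 0)
    (hex : ∀ b, g b = 0 → ∃ a, f a = b) :
    ∃ (w : tr Q f ≫ tr Q g = 0), (ShortComplex.mk (tr Q f) (tr Q g) w).ShortExact :=
  ⟨by ext x; exact hfg x, K447.RepSeq.shortExact_of _ hf hg hex⟩

/-- The key argument. -/
theorem subsingleton_H2 (m : ℕ) (hm : m ≠ 0) (htor : ∀ (A : Type) [AddCommGroup A]
    (x : groupCohomology (Rep.trivial ℤ Q A) 2), m • x = 0)
    (hQ : Subsingleton (groupCohomology (Rep.trivial ℤ Q ℤ) 3))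
    (A : Type) [AddCommGroup A] (hdiv : ∀ a : A, ∃ b, m • b = a)
    (ζ : A) (hζ : ∀ a : A, m • a = 0 → ∃ i : ℤ, i • ζ = a) (hζ' : ∀ i : ℤ, i • ζ = 0 ↔ (m : ℤ) ∣ i) :
    Subsingleton (groupCohomology (Rep.trivial ℤ Q A) 2) := by
  refine ⟨fun x y => ?_⟩
  suffices h : ∀ x : groupCohomology (Rep.trivial ℤ Q A) 2, x = 0 by rw [h x, h y]
  clear x y
  intro x
  let W : AddSubgroup A := (m • AddMonoidHom.id A).ker
  have hW : ∀ a : A, a ∈ W ↔ m • a = 0 := fun a => Iff.rfl
  -- the sequence `0 → W → A → A → 0`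
  obtain ⟨w, hw⟩ := shortExact (Q := Q) W.subtype (m • AddMonoidHom.id A) W.subtype_injective
    (fun a => hdiv a) (fun a => a.2) (fun b hb => ⟨⟨b, hb⟩, rfl⟩)
  obtain ⟨y, hy⟩ := K447.RepSeq.exists_of_map_eq_zero hw 2 x
    (by change H Q (m • AddMonoidHom.id A) 2 x = 0; rw [H_nsmul, htor])
  change H Q W.subtype 2 y = x at hy
  -- the sequence `0 → ℤ → ℤ → W → 0`
  have hζm : m • ζ = 0 := by
    have := (hζ' (m : ℤ)).mpr dvd_rfl
    rwa [natCast_zsmul] at this
  let g : ℤ →+ W := (zmultiplesHom W) ⟨ζ, hζm⟩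
  have hg : ∀ i : ℤ, ((g i : W) : A) = i • ζ := fun i => rfl
  obtain ⟨w', hw'⟩ := shortExact (Q := Q) (m • AddMonoidHom.id ℤ) g
    (fun a b hab => by
      have : (m : ℤ) * a = m * b := by simpa using hab
      exact mul_left_cancel₀ (by exact_mod_cast hm) this)
    (fun a => by
      obtain ⟨i, hi⟩ := hζ a.1 a.2
      exact ⟨i, Subtype.ext hi⟩)
    (fun a => Subtype.ext (by
      rw [hg]
      refine (hζ' _).mpr ⟨a, ?_⟩
      simp))
    (fun b hb => by
      obtain ⟨c, hc⟩ := (hζ' b).mp (by rw [← hg, hb]; rfl)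
      exact ⟨c, by rw [hc]; simp⟩)
  obtain ⟨z, hz⟩ := K447.RepSeq.surjective_of_subsingleton hw' 2 hQ y
  change H Q g 2 z = y at hz
  obtain ⟨ζ', hζ''⟩ := hdiv ζ
  have hfac : W.subtype.comp g = ((zmultiplesHom A) ζ').comp (m • AddMonoidHom.id ℤ) := by
    ext
    simp [hg, ← hζ'']
  rw [← hy, ← hz, ← H_comp, hfac, H_comp, H_nsmul, htor, H_zero]

end K447.TrivH2
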